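import Groth.Agent.Lib.WeilEq.Represent
import Groth.Agent.Lib.AbRigid.Maximal
import Groth.Agent.Lib.AbRigid.Image
import Groth.Prelude.Def_Red2

/-!
# Transporters and centralizers of morphisms over a field
-/

set_option autoImplicit false

universe u

open CategoryTheory CategoryTheory.Limits MonoidalCategory CartesianMonoidalCategory MonObj GrpObj AlgebraicGeometry

namespace Groth.Agent.GrpTrans20

variable {k : Type u} [Field k] {G X : Over (Spec (CommRingCat.of k))} [GrpObj G]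

theorem exists_transporter (u v : X ⟶ G) :
    ∃ (T : Over (Spec (CommRingCat.of k))) (t : T ⟶ G), IsClosedImmersion t.left ∧
      ∀ (S' : Over (Spec (CommRingCat.of k))) (g : S' ⟶ G), (∃ z : S' ⟶ T, z ≫ t = g) ↔
        ∀ (S'' : Over (Spec (CommRingCat.of k))) (s : S'' ⟶ S') (x : S'' ⟶ X),
          (s ≫ g) * (x ≫ u) * (s ≫ g)⁻¹ = x ≫ v := by
  let A : G ⊗ X ⟶ G := fst G X * (snd G X ≫ u) * (fst G X)⁻¹
  let B : G ⊗ X ⟶ G := snd G X ≫ v
  have hA : ∀ {U : Over (Spec (CommRingCat.of k))} (p : U ⟶ G) (x : U ⟶ X),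
      lift p x ≫ A = p * (x ≫ u) * p⁻¹ ∧ lift p x ≫ B = x ≫ v := fun p x =>
    ⟨by simp [A, MonObj.comp_mul, GrpObj.comp_inv], by simp [B]⟩
  haveI := AbRigid.isSeparated_of_grpObj G
  obtain ⟨Z, i, hi, hiff⟩ := WeilEq.exists_closedSubscheme G.hom X.hom A.left B.left G.hom
    ((Over.w A).trans (Over.w B).symm)
  refine ⟨Over.mk (i ≫ G.hom), Over.homMk i rfl, hi, fun S' g => ⟨?_, fun h => ?_⟩⟩
  · rintro ⟨z, rfl⟩ S'' s x
    let w : S''.left ⟶ pullback G.hom X.hom := (lift (s ≫ z ≫ Over.homMk i rfl) x).left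
    have hg : WeilEq.Good G.hom X.hom A.left B.left (z.left ≫ i) :=
      (hiff (z.left ≫ i)).1 ⟨z.left, rfl⟩
    have h := hg _ s.left w (by
      show _ = s.left ≫ z.left ≫ i
      exact congrArg CommaMorphism.left (lift_fst (s ≫ z ≫ Over.homMk i rfl) x))
    have h' : lift (s ≫ z ≫ Over.homMk i rfl) x ≫ A = lift (s ≫ z ≫ Over.homMk i rfl) x ≫ B :=
      Over.OverMorphism.ext h
    rw [(hA _ _).1, (hA _ _).2] at h'
    exact h'
  · obtain ⟨z, hz⟩ := (hiff g.left).2 fun W p w hw => by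
      let S'' : Over (Spec (CommRingCat.of k)) := Over.mk (p ≫ S'.hom)
      have hw' : (w ≫ pullback.snd G.hom X.hom) ≫ X.hom = S''.hom := by
        rw [Category.assoc, ← pullback.condition, ← Category.assoc, hw, Category.assoc, Over.w g]
        rfl
      let s : S'' ⟶ S' := Over.homMk p rfl
      let x : S'' ⟶ X := Over.homMk (w ≫ pullback.snd G.hom X.hom) hw'
      have h1 : lift (s ≫ g) x ≫ A = lift (s ≫ g) x ≫ B := by
        rw [(hA _ _).1, (hA _ _).2]; exact h S'' s x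
      have hl : (lift (s ≫ g) x).left = w := by
        apply pullback.hom_ext
        · rw [hw]; exact congrArg CommaMorphism.left (lift_fst (s ≫ g) x)
        · exact congrArg CommaMorphism.left (lift_snd (s ≫ g) x)
      have h2 := congrArg CommaMorphism.left h1
      change (lift (s ≫ g) x).left ≫ A.left = (lift (s ≫ g) x).left ≫ B.left at h2
      rwa [hl] at h2
    exact ⟨Over.homMk z (by
      show z ≫ i ≫ G.hom = S'.hom
      rw [← Category.assoc, hz, Over.w g]), Over.OverMorphism.ext hz⟩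

/-- The centralizer of a morphism, as a closed subgroup. -/
theorem exists_centralizer (u : X ⟶ G) :
    ∃ (C : Over (Spec (CommRingCat.of k))) (_ : GrpObj C) (c : C ⟶ G), IsMonHom c ∧ IsClosedImmersion c.left ∧
      ∀ (S' : Over (Spec (CommRingCat.of k))) (g : S' ⟶ G), (∃ z : S' ⟶ C, z ≫ c = g) ↔
        ∀ (S'' : Over (Spec (CommRingCat.of k))) (s : S'' ⟶ S') (x : S'' ⟶ X),
          (s ≫ g) * (x ≫ u) = (x ≫ u) * (s ≫ g) := by
  obtain ⟨C, c, hc, hiff⟩ := exists_transporter u u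
  have hiff' : ∀ (S' : Over (Spec (CommRingCat.of k))) (g : S' ⟶ G), (∃ z : S' ⟶ C, z ≫ c = g) ↔
      ∀ (S'' : Over (Spec (CommRingCat.of k))) (s : S'' ⟶ S') (x : S'' ⟶ X),
        (s ≫ g) * (x ≫ u) = (x ≫ u) * (s ≫ g) := fun S' g =>
    (hiff S' g).trans (forall_congr' fun _ => forall_congr' fun _ => forall_congr' fun _ => mul_inv_eq_iff_eq_mul)
  haveI : Mono c := Over.mono_of_mono_left c
  obtain ⟨e, he⟩ := (hiff' _ 1).2 fun _ s x => by simp
  obtain ⟨m, hm⟩ := (hiff' _ ((fst C C ≫ c) * (snd C C ≫ c))).2 fun S'' s x => by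
    have h1 := (hiff' _ (fst C C ≫ c)).1 ⟨_, rfl⟩ S'' s x
    have h2 := (hiff' _ (snd C C ≫ c)).1 ⟨_, rfl⟩ S'' s x
    rw [MonObj.comp_mul, _root_.mul_assoc, h2, ← _root_.mul_assoc, h1, _root_.mul_assoc]
  obtain ⟨v, hv⟩ := (hiff' _ c⁻¹).2 fun S'' s x => by
    have h := (hiff' _ c).1 ⟨𝟙 _, Category.id_comp _⟩ S'' s x
    rw [GrpObj.comp_inv]
    exact ((show Commute (s ≫ c) (x ≫ u) from h).inv_left).eq
  have he' : e ≫ c = η[G] := by rw [he, Hom.one_def, toUnit_unique (toUnit _) (𝟙 _), Category.id_comp]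
  have hm' : m ≫ c = (c ⊗ₘ c) ≫ μ[G] := by rw [hm, Hom.mul_def, lift_fst_comp_snd_comp]
  have hv' : v ≫ c = c ≫ ι[G] := by rw [hv]; rfl
  letI := AbRigid.grpObjOfMono c e he' m hm' v hv'
  exact ⟨C, inferInstance, c, ⟨he', hm'⟩, hc, hiff'⟩

end Groth.Agent.GrpTrans20
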