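import Groth.Agent.S4101
import Groth.Agent.S5356
import Groth.Agent.Lib.AbRigid.GrpTop
import Groth.Agent.Lib.GrpTrans20.Transporter

/-!
# Transporters of subschemes and normalizers over a field
-/

set_option autoImplicit false

universe u

open CategoryTheory CategoryTheory.Limits MonoidalCategory CartesianMonoidalCategory MonObj GrpObj AlgebraicGeometry

namespace Groth.Agent.GrpTrans20

variable {k : Type u} [Field k] {G H X Y : Over (Spec (CommRingCat.of k))}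

/-- The points `g` of `G` such that `A(g, x)` lies in the closed subscheme `Y` for all `x`. -/
theorem exists_factor (A : G ⊗ X ⟶ H) (y : Y ⟶ H) [IsClosedImmersion y.left] :
    ∃ (T : Over (Spec (CommRingCat.of k))) (t : T ⟶ G), IsClosedImmersion t.left ∧
      ∀ (S' : Over (Spec (CommRingCat.of k))) (g : S' ⟶ G), (∃ z : S' ⟶ T, z ≫ t = g) ↔
        ∀ (S'' : Over (Spec (CommRingCat.of k))) (s : S'' ⟶ S') (x : S'' ⟶ X),
          ∃ x' : S'' ⟶ Y, lift (s ≫ g) x ≫ A = x' ≫ y := by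
  let B : X ⊗ G ⟶ H := lift (snd X G) (fst X G) ≫ A
  have hB : ∀ {U : Over (Spec (CommRingCat.of k))} (p : U ⟶ G) (x : U ⟶ X), lift p x ≫ A = lift x p ≫ B := fun p x => by
    simp [B, comp_lift_assoc]
  let f : Limits.pullback X.hom G.hom ⟶ G.left := Limits.pullback.snd X.hom G.hom
  let Al : Limits.pullback X.hom G.hom ⟶ H.left := B.left
  let j : Limits.pullback y.left Al ⟶ Limits.pullback X.hom G.hom := Limits.pullback.snd y.left Al
  haveI : IsClosedImmersion j := MorphismProperty.pullback_snd _ _ ‹IsClosedImmersion y.left›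
  have hf : SGA3x.IsEssentiallyFree f :=
    S5356.result.{u}.2.2.2 _ _ _ X.hom G.hom (S5356.result.{u}.2.2.1 k X.left X.hom)
  obtain ⟨T, t, ht, hiff, -⟩ := S4101.result G.left _ _ f hf j
  refine ⟨Over.mk (t ≫ G.hom), Over.homMk t rfl, ht, fun S' g => ?_⟩
  have hfac : ∀ {T' : Scheme.{u}} (g' : T' ⟶ G.left), (∃ z, z ≫ t = g') ↔ PureSmooth29.Fac f j g' :=
    fun g' => (hiff _ g').trans (PureSmooth29.fac_iff_isIso f j g').symm
  constructor
  · rintro ⟨z, rfl⟩ S'' s x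
    obtain ⟨l, hl⟩ := (hfac (z.left ≫ t)).1 ⟨z.left, rfl⟩
    let w : S''.left ⟶ Limits.pullback X.hom G.hom := (lift x (s ≫ z ≫ Over.homMk t rfl)).left
    let m : S''.left ⟶ Limits.pullback f (z.left ≫ t) := Limits.pullback.lift w s.left (by
      exact congrArg CommaMorphism.left (lift_snd x (s ≫ z ≫ Over.homMk t rfl)))
    have h1 : (m ≫ l ≫ Limits.pullback.fst y.left Al) ≫ y.left = w ≫ Al := by
      simp only [Category.assoc]
      rw [Limits.pullback.condition, ← Category.assoc l, show l ≫ Limits.pullback.snd y.left Al = _ from hl,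
        ← Category.assoc, Limits.pullback.lift_fst]
    rw [hB]
    refine ⟨Over.homMk (m ≫ l ≫ Limits.pullback.fst y.left Al) ?_, Over.OverMorphism.ext h1.symm⟩
    rw [← Over.w y, ← Category.assoc, h1]
    exact Over.w (lift x (s ≫ z ≫ Over.homMk t rfl) ≫ B)
  · intro h
    obtain ⟨z, hz⟩ := (hfac g.left).2 (by
      let S'' : Over (Spec (CommRingCat.of k)) := Over.mk (Limits.pullback.snd f g.left ≫ S'.hom)
      let w : Limits.pullback f g.left ⟶ Limits.pullback X.hom G.hom := Limits.pullback.fst f g.left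
      have hw : w ≫ Limits.pullback.snd X.hom G.hom = Limits.pullback.snd f g.left ≫ g.left := Limits.pullback.condition
      have hw' : (w ≫ Limits.pullback.fst X.hom G.hom) ≫ X.hom = S''.hom := by
        rw [Category.assoc, Limits.pullback.condition, ← Category.assoc, hw, Category.assoc, Over.w g]
        rfl
      let s : S'' ⟶ S' := Over.homMk (Limits.pullback.snd f g.left) rfl
      let x : S'' ⟶ X := Over.homMk (w ≫ Limits.pullback.fst X.hom G.hom) hw'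
      obtain ⟨x', hx'⟩ := h S'' s x
      rw [hB] at hx'
      have hl : (lift x (s ≫ g)).left = w := by
        apply Limits.pullback.hom_ext
        · exact congrArg CommaMorphism.left (lift_fst x (s ≫ g))
        · rw [hw]; exact congrArg CommaMorphism.left (lift_snd x (s ≫ g))
      have h2 : w ≫ Al = x'.left ≫ y.left := by
        rw [← hl]; exact congrArg CommaMorphism.left hx'
      exact ⟨Limits.pullback.lift x'.left w h2.symm, Limits.pullback.lift_snd _ _ _⟩)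
    exact ⟨Over.homMk z (by
      show z ≫ t ≫ G.hom = S'.hom
      rw [← Category.assoc, hz, Over.w g]), Over.OverMorphism.ext hz⟩

theorem exists_inter {T₁ T₂ : Over (Spec (CommRingCat.of k))} (t₁ : T₁ ⟶ G) (t₂ : T₂ ⟶ G)
    [IsClosedImmersion t₁.left] [IsClosedImmersion t₂.left] :
    ∃ (T : Over (Spec (CommRingCat.of k))) (t : T ⟶ G), IsClosedImmersion t.left ∧
      ∀ (S' : Over (Spec (CommRingCat.of k))) (g : S' ⟶ G), (∃ z : S' ⟶ T, z ≫ t = g) ↔
        ((∃ z, z ≫ t₁ = g) ∧ ∃ z, z ≫ t₂ = g) := by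
  refine ⟨Limits.pullback t₁ t₂, Limits.pullback.fst t₁ t₂ ≫ t₁, ?_, fun S' g => ⟨?_, ?_⟩⟩
  · haveI : IsClosedImmersion (Limits.pullback.fst t₁ t₂).left :=
      MorphismProperty.of_isPullback (P := @IsClosedImmersion)
        ((IsPullback.of_hasPullback t₁ t₂).map (Over.forget _)).flip ‹IsClosedImmersion t₂.left›
    rw [Over.comp_left]
    infer_instance
  · rintro ⟨z, rfl⟩
    exact ⟨⟨_, Category.assoc _ _ _⟩, ⟨z ≫ Limits.pullback.snd t₁ t₂, by rw [Category.assoc, ← Limits.pullback.condition]⟩⟩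
  · rintro ⟨⟨z₁, h₁⟩, ⟨z₂, h₂⟩⟩
    exact ⟨Limits.pullback.lift z₁ z₂ (h₁.trans h₂.symm), by rw [← Category.assoc, Limits.pullback.lift_fst, h₁]⟩

variable [GrpObj G]

theorem exists_transporter_subscheme {Y' : Over (Spec (CommRingCat.of k))} (y : Y ⟶ G) [IsClosedImmersion y.left]
    (y' : Y' ⟶ G) :
    ∃ (T : Over (Spec (CommRingCat.of k))) (t : T ⟶ G), IsClosedImmersion t.left ∧
      ∀ (S' : Over (Spec (CommRingCat.of k))) (g : S' ⟶ G), (∃ z : S' ⟶ T, z ≫ t = g) ↔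
        ∀ (S'' : Over (Spec (CommRingCat.of k))) (s : S'' ⟶ S') (x : S'' ⟶ Y'),
          ∃ x' : S'' ⟶ Y, (s ≫ g) * (x ≫ y') * (s ≫ g)⁻¹ = x' ≫ y := by
  obtain ⟨T, t, ht, h⟩ := exists_factor (fst G Y' * (snd G Y' ≫ y') * (fst G Y')⁻¹) y
  refine ⟨T, t, ht, fun S' g => (h S' g).trans ?_⟩
  refine forall_congr' fun S'' => forall_congr' fun s => forall_congr' fun x => ?_
  simp [MonObj.comp_mul, GrpObj.comp_inv]

theorem exists_strict_transporter {Y' : Over (Spec (CommRingCat.of k))} (y : Y ⟶ G) [IsClosedImmersion y.left]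
    (y' : Y' ⟶ G) [IsClosedImmersion y'.left] :
    ∃ (T : Over (Spec (CommRingCat.of k))) (t : T ⟶ G), IsClosedImmersion t.left ∧
      ∀ (S' : Over (Spec (CommRingCat.of k))) (g : S' ⟶ G), (∃ z : S' ⟶ T, z ≫ t = g) ↔
        ((∀ (S'' : Over (Spec (CommRingCat.of k))) (s : S'' ⟶ S') (x : S'' ⟶ Y'),
          ∃ x' : S'' ⟶ Y, (s ≫ g) * (x ≫ y') * (s ≫ g)⁻¹ = x' ≫ y) ∧
        (∀ (S'' : Over (Spec (CommRingCat.of k))) (s : S'' ⟶ S') (x' : S'' ⟶ Y),
          ∃ x : S'' ⟶ Y', (s ≫ g)⁻¹ * (x' ≫ y) * (s ≫ g) = x ≫ y')) := by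
  obtain ⟨T₁, t₁, ht₁, h₁⟩ := exists_transporter_subscheme y y'
  obtain ⟨T₂, t₂, ht₂, h₂⟩ := exists_factor ((fst G Y)⁻¹ * (snd G Y ≫ y) * fst G Y) y'
  obtain ⟨T, t, ht, h⟩ := exists_inter t₁ t₂
  refine ⟨T, t, ht, fun S' g => (h S' g).trans (and_congr (h₁ S' g) ((h₂ S' g).trans ?_))⟩
  refine forall_congr' fun S'' => forall_congr' fun s => forall_congr' fun x => ?_
  simp [MonObj.comp_mul, GrpObj.comp_inv]

theorem exists_normalizer [GrpObj H] (h : H ⟶ G) [IsMonHom h] [IsImmersion h.left] :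
    ∃ (N : Over (Spec (CommRingCat.of k))) (_ : GrpObj N) (n : N ⟶ G), IsClosedImmersion n.left ∧
      Red.IsNormalizerOf h n := by
  haveI := AbRigid.isClosedImmersion_of_isImmersion h
  obtain ⟨N, n, hn, hiff⟩ := exists_strict_transporter h h
  haveI : Mono n := Over.mono_of_mono_left n
  have hiff' : ∀ (S' : Over (Spec (CommRingCat.of k))) (g : S' ⟶ G), (∃ z : S' ⟶ N, z ≫ n = g) ↔
      ∀ (X' : Over (Spec (CommRingCat.of k))) (x : X' ⟶ S') (a : X' ⟶ H),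
        (∃ b : X' ⟶ H, (x ≫ g) * (a ≫ h) * (x ≫ g)⁻¹ = b ≫ h) ∧
        (∃ b : X' ⟶ H, (x ≫ g)⁻¹ * (a ≫ h) * (x ≫ g) = b ≫ h) := fun S' g =>
    (hiff S' g).trans ⟨fun hh X' x a => ⟨hh.1 X' x a, hh.2 X' x a⟩,
      fun hh => ⟨fun X' x a => (hh X' x a).1, fun X' x a => (hh X' x a).2⟩⟩
  obtain ⟨e, he⟩ := (hiff' (𝟙_ _) 1).2 fun X' x a => ⟨⟨a, by rw [MonObj.comp_one]; group⟩, ⟨a, by rw [MonObj.comp_one]; group⟩⟩
  obtain ⟨m, hm⟩ := (hiff' _ ((fst N N ≫ n) * (snd N N ≫ n))).2 fun X' x a => by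
    have h1 := (hiff' _ (fst N N ≫ n)).1 ⟨_, rfl⟩
    have h2 := (hiff' _ (snd N N ≫ n)).1 ⟨_, rfl⟩
    obtain ⟨b, hb⟩ := (h2 X' x a).1
    obtain ⟨c, hc⟩ := (h1 X' x b).1
    obtain ⟨b', hb'⟩ := (h1 X' x a).2
    obtain ⟨c', hc'⟩ := (h2 X' x b').2
    rw [MonObj.comp_mul]
    exact ⟨⟨c, by rw [← hc, ← hb]; group⟩, ⟨c', by rw [← hc', ← hb']; group⟩⟩
  obtain ⟨v, hv⟩ := (hiff' _ n⁻¹).2 fun X' x a => by
    obtain ⟨b, hb⟩ := ((hiff' _ n).1 ⟨𝟙 _, Category.id_comp _⟩ X' x a).1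
    obtain ⟨b', hb'⟩ := ((hiff' _ n).1 ⟨𝟙 _, Category.id_comp _⟩ X' x a).2
    rw [GrpObj.comp_inv, _root_.inv_inv]
    exact ⟨⟨b', hb'⟩, ⟨b, hb⟩⟩
  have he' : e ≫ n = η[G] := by rw [he, Hom.one_def, toUnit_unique (toUnit _) (𝟙 _), Category.id_comp]
  have hm' : m ≫ n = (n ⊗ₘ n) ≫ μ[G] := by rw [hm, Hom.mul_def, lift_fst_comp_snd_comp]
  have hv' : v ≫ n = n ≫ ι[G] := by rw [hv]; rfl
  letI := AbRigid.grpObjOfMono n e he' m hm' v hv'
  exact ⟨N, inferInstance, n, hn, ⟨he', hm'⟩, inferInstance, hiff'⟩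

end Groth.Agent.GrpTrans20
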