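import Groth.Agent.Lib.GrpTrans20.Subschemes

/-!
# The points of `G` all of whose conjugates lie in a closed subgroup
-/

set_option autoImplicit false

universe u

open CategoryTheory CategoryTheory.Limits MonoidalCategory CartesianMonoidalCategory MonObj GrpObj AlgebraicGeometry

namespace Groth.Agent.GrpTrans20

variable {k : Type u} [Field k] {G H : Over (Spec (CommRingCat.of k))} [GrpObj G] [GrpObj H]

theorem exists_normalCore (h : H ⟶ G) [IsMonHom h] [IsClosedImmersion h.left] :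
    ∃ (C : Over (Spec (CommRingCat.of k))) (_ : GrpObj C) (c : C ⟶ G), IsMonHom c ∧ IsClosedImmersion c.left ∧
      ∀ (S' : Over (Spec (CommRingCat.of k))) (g : S' ⟶ G), (∃ z : S' ⟶ C, z ≫ c = g) ↔
        ∀ (S'' : Over (Spec (CommRingCat.of k))) (s : S'' ⟶ S') (x : S'' ⟶ G),
          ∃ b : S'' ⟶ H, x * (s ≫ g) * x⁻¹ = b ≫ h := by
  obtain ⟨C, c, hc, hiff⟩ := exists_factor (snd G G * fst G G * (snd G G)⁻¹) h
  haveI : Mono c := Over.mono_of_mono_left c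
  have hiff' : ∀ (S' : Over (Spec (CommRingCat.of k))) (g : S' ⟶ G), (∃ z : S' ⟶ C, z ≫ c = g) ↔
      ∀ (S'' : Over (Spec (CommRingCat.of k))) (s : S'' ⟶ S') (x : S'' ⟶ G),
        ∃ b : S'' ⟶ H, x * (s ≫ g) * x⁻¹ = b ≫ h := by
    intro S' g
    refine (hiff S' g).trans (forall_congr' fun S'' => forall_congr' fun s => forall_congr' fun x => ?_)
    simp [MonObj.comp_mul, GrpObj.comp_inv]
  obtain ⟨e, he⟩ := (hiff' (𝟙_ _) 1).2 fun S'' s x => ⟨1, by rw [MonObj.comp_one, MonObj.one_comp h]; group⟩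
  obtain ⟨m, hm⟩ := (hiff' _ ((fst C C ≫ c) * (snd C C ≫ c))).2 fun S'' s x => by
    obtain ⟨b, hb⟩ := (hiff' _ (fst C C ≫ c)).1 ⟨_, rfl⟩ S'' s x
    obtain ⟨b', hb'⟩ := (hiff' _ (snd C C ≫ c)).1 ⟨_, rfl⟩ S'' s x
    exact ⟨b * b', by rw [MonObj.comp_mul, MonObj.mul_comp, ← hb, ← hb']; group⟩
  obtain ⟨v, hv⟩ := (hiff' _ c⁻¹).2 fun S'' s x => by
    obtain ⟨b, hb⟩ := (hiff' _ c).1 ⟨𝟙 _, Category.id_comp _⟩ S'' s x
    exact ⟨b⁻¹, by rw [GrpObj.comp_inv, GrpObj.inv_comp, ← hb]; group⟩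
  have he' : e ≫ c = η[G] := by rw [he, Hom.one_def, toUnit_unique (toUnit _) (𝟙 _), Category.id_comp]
  have hm' : m ≫ c = (c ⊗ₘ c) ≫ μ[G] := by rw [hm, Hom.mul_def, lift_fst_comp_snd_comp]
  have hv' : v ≫ c = c ≫ ι[G] := by rw [hv]; rfl
  letI := AbRigid.grpObjOfMono c e he' m hm' v hv'
  exact ⟨C, inferInstance, c, ⟨he', hm'⟩, hc, hiff'⟩

end Groth.Agent.GrpTrans20
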